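import Cfsg.Agent.H603.Weil.Main
import Cfsg.Agent.S2580
import Cfsg.Prelude.Def_LieClassical

/-!
# The Weil character on `GU_n(q) × GU_m(q)` (helper603)

* `mem_GU_iff` : `M ∈ GU n F q ↔ Mᵀ * M ^ σ = 1`;
* `weil_hom` : `(g, h) ↦ (-1) ^ (n m) (-q) ^ dim {X | g X = X h}` is a character of `GU_n × GU_m`;
* `weil_hom_inv` : the same with `h⁻¹`;

-/

set_option autoImplicit false
set_option linter.unusedSectionVars false

namespace Cfsg.Agent.H603.Weil

open Cfsg Matrix

universe u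

variable {F : Type u} [Field F] {q : ℕ}

/-- the involution exists -/
theorem exists_frob (hF : Nat.card F = q ^ 2) (hq : q ≠ 0) : ∃ σ : F →+* F, UF F q σ := by
  have hf : Finite F := by
    by_contra hf
    rw [not_finite_iff_infinite] at hf
    rw [Nat.card_eq_zero_of_infinite] at hF
    exact hq (by
      rcases Nat.eq_zero_or_pos q with h2 | h2
      · exact h2
      · have := Nat.pow_pos (n := 2) h2
        omega)
  have := Fintype.ofFinite F
  obtain ⟨p, hp⟩ := CharP.exists F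
  obtain ⟨f, hpp, hcard⟩ := FiniteField.card F p
  have : Fact p.Prime := ⟨hpp⟩
  rw [← Nat.card_eq_fintype_card, hF] at hcard
  obtain ⟨k, _, hk⟩ := (Nat.dvd_prime_pow hpp).1 (show q ∣ p ^ (f : ℕ) from hcard ▸ Dvd.intro q (sq q).symm)
  exact ⟨iterateFrobenius F p k, hF, fun x => by rw [iterateFrobenius_def, hk]⟩

variable {σ : F →+* F}

theorem hermForm_eq (hq : UF F q σ) {n : ℕ} (u v : Fin n → F) : hermForm n F q u v = u ⬝ᵥ fun i => σ (v i) := by
  unfold hermForm dotProduct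
  exact Finset.sum_congr rfl fun i _ => by simp only [hq.frob]

theorem map_mulVec (σ : F →+* F) {n : ℕ} (M : Matrix (Fin n) (Fin n) F) (v : Fin n → F) :
    (fun i => σ ((M *ᵥ v) i)) = M.map σ *ᵥ fun i => σ (v i) := by
  funext i
  simp only [mulVec, dotProduct, map_sum, map_mul, Matrix.map_apply]

theorem mem_GU_iff (hq : UF F q σ) {n : ℕ} (M : Matrix.GeneralLinearGroup (Fin n) F) :
    M ∈ GU n F q ↔ (M : Matrix (Fin n) (Fin n) F)ᵀ * (M : Matrix (Fin n) (Fin n) F).map σ = 1 := by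
  have key : ∀ u v : Fin n → F, hermForm n F q ((M : Matrix (Fin n) (Fin n) F) *ᵥ u) ((M : Matrix (Fin n) (Fin n) F) *ᵥ v) =
      u ⬝ᵥ (((M : Matrix (Fin n) (Fin n) F)ᵀ * (M : Matrix (Fin n) (Fin n) F).map σ) *ᵥ fun i => σ (v i)) := by
    intro u v
    rw [hermForm_eq hq, map_mulVec, ← mulVec_mulVec, dotProduct_mulVec u, vecMul_transpose]
  constructor
  · intro h
    ext i j
    have h1 : hermForm n F q ((M : Matrix (Fin n) (Fin n) F) *ᵥ Pi.single i 1) ((M : Matrix (Fin n) (Fin n) F) *ᵥ Pi.single j 1) =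
      hermForm n F q (Pi.single i 1) (Pi.single j 1) := h _ _
    rw [key, hermForm_eq hq] at h1
    have h2 : (fun k => σ ((Pi.single j 1 : Fin n → F) k)) = Pi.single j 1 := by
      funext k
      by_cases hk : k = j
      · subst hk
        simp
      · simp [hk]
    rw [h2, mulVec_single_one, single_one_dotProduct, single_one_dotProduct] at h1
    rw [Matrix.one_apply]
    rw [Matrix.col_apply] at h1
    rw [h1, Pi.single_apply]
  · intro h u v
    show hermForm n F q ((M : Matrix (Fin n) (Fin n) F) *ᵥ u) ((M : Matrix (Fin n) (Fin n) F) *ᵥ v) = _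
    rw [key, h, one_mulVec, hermForm_eq hq]

/-- the space of homomorphisms -/
def homSp {n m : ℕ} (A : Matrix (Fin n) (Fin n) F) (C : Matrix (Fin m) (Fin m) F) : Submodule F (Matrix (Fin n) (Fin m) F) where
  carrier := {X | A * X = X * C}
  add_mem' {X Y} hX hY := by
    simp only [Set.mem_ofPred_eq] at hX hY ⊢
    rw [Matrix.mul_add, Matrix.add_mul, hX, hY]
  zero_mem' := by simp
  smul_mem' c X hX := by
    simp only [Set.mem_ofPred_eq] at hX ⊢
    rw [Matrix.mul_smul, Matrix.smul_mul, hX]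

theorem mem_homSp {n m : ℕ} {A : Matrix (Fin n) (Fin n) F} {C : Matrix (Fin m) (Fin m) F} {X : Matrix (Fin n) (Fin m) F} :
    X ∈ homSp A C ↔ A * X = X * C := Iff.rfl

/-- the hermitian form on matrices -/
def mform (σ : F →+* F) (n m : ℕ) : Matrix (Fin n) (Fin m) F →+ Matrix (Fin n) (Fin m) F →+ F :=
  AddMonoidHom.mk' (fun X => AddMonoidHom.mk' (fun Y => (X * (Y.map σ)ᵀ).trace) fun Y Z => by
    rw [Matrix.map_add σ (map_add σ), transpose_add, Matrix.mul_add, trace_add]) fun X Y => by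
    ext Z
    show ((X + Y) * (Z.map σ)ᵀ).trace = (X * (Z.map σ)ᵀ).trace + (Y * (Z.map σ)ᵀ).trace
    rw [Matrix.add_mul, trace_add]

theorem mform_apply (n m : ℕ) (X Y : Matrix (Fin n) (Fin m) F) : mform σ n m X Y = (X * (Y.map σ)ᵀ).trace := rfl

theorem mform_herm (hq : UF F q σ) (n m : ℕ) : Herm σ (mform σ n m) where
  smul_left a X Y := by
    rw [mform_apply, mform_apply, Matrix.smul_mul, trace_smul, smul_eq_mul]
  symm X Y := by
    rw [mform_apply, mform_apply, ← trace_transpose (Y * _), transpose_mul, transpose_transpose, AddMonoidHom.map_trace σ]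
    congr 1
    rw [Matrix.map_mul]
    congr 1
    ext i j
    simp [hq.invol]
  nondeg X hX := by
    ext i j
    have h1 := hX (Matrix.single i j 1)
    rw [mform_apply] at h1
    have h2 : (Matrix.single i j (1 : F)).map σ = Matrix.single i j 1 := by
      ext a b
      simp only [Matrix.map_apply, Matrix.single_apply]
      split_ifs <;> simp
    rw [h2, transpose_single, trace_mul_single] at h1
    rw [Matrix.zero_apply]
    simpa using h1

/-- the action on matrices -/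
def act {n m : ℕ} : Matrix.GeneralLinearGroup (Fin n) F × Matrix.GeneralLinearGroup (Fin m) F →*
    (Matrix (Fin n) (Fin m) F ≃ₗ[F] Matrix (Fin n) (Fin m) F) where
  toFun g :=
    { toFun := fun X => (g.1 : Matrix (Fin n) (Fin n) F) * X * ((g.2⁻¹ : Matrix.GeneralLinearGroup (Fin m) F) : Matrix (Fin m) (Fin m) F)
      invFun := fun X => ((g.1⁻¹ : Matrix.GeneralLinearGroup (Fin n) F) : Matrix (Fin n) (Fin n) F) * X * (g.2 : Matrix (Fin m) (Fin m) F)
      map_add' := fun X Y => by rw [Matrix.mul_add, Matrix.add_mul]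
      map_smul' := fun c X => by rw [Matrix.mul_smul, Matrix.smul_mul, RingHom.id_apply]
      left_inv := fun X => by
        simp only [Matrix.mul_assoc]
        rw [← Matrix.mul_assoc (((g.1⁻¹ : Matrix.GeneralLinearGroup (Fin n) F) : Matrix (Fin n) (Fin n) F)), Units.inv_mul,
          Units.inv_mul, Matrix.mul_one, Matrix.one_mul]
      right_inv := fun X => by
        simp only [Matrix.mul_assoc]
        rw [← Matrix.mul_assoc (g.1 : Matrix (Fin n) (Fin n) F), Units.mul_inv, Units.mul_inv, Matrix.mul_one,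
          Matrix.one_mul] }
  map_one' := by
    refine LinearEquiv.ext fun X => ?_
    show ((1 : Matrix.GeneralLinearGroup (Fin n) F) : Matrix (Fin n) (Fin n) F) * X *
      (((1 : Matrix.GeneralLinearGroup (Fin m) F)⁻¹ : Matrix.GeneralLinearGroup (Fin m) F) : Matrix (Fin m) (Fin m) F) = X
    rw [inv_one, Units.val_one, Units.val_one, Matrix.mul_one, Matrix.one_mul]
  map_mul' g h := by
    refine LinearEquiv.ext fun X => ?_
    show ((g.1 * h.1 : Matrix.GeneralLinearGroup (Fin n) F) : Matrix (Fin n) (Fin n) F) * X *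
      (((g.2 * h.2)⁻¹ : Matrix.GeneralLinearGroup (Fin m) F) : Matrix (Fin m) (Fin m) F) =
      (g.1 : Matrix (Fin n) (Fin n) F) * ((h.1 : Matrix (Fin n) (Fin n) F) * X *
        ((h.2⁻¹ : Matrix.GeneralLinearGroup (Fin m) F) : Matrix (Fin m) (Fin m) F)) *
        ((g.2⁻¹ : Matrix.GeneralLinearGroup (Fin m) F) : Matrix (Fin m) (Fin m) F)
    rw [_root_.mul_inv_rev, Units.val_mul, Units.val_mul]
    simp only [Matrix.mul_assoc]

theorem act_apply {n m : ℕ} (g : Matrix.GeneralLinearGroup (Fin n) F × Matrix.GeneralLinearGroup (Fin m) F)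
    (X : Matrix (Fin n) (Fin m) F) : act g X = (g.1 : Matrix (Fin n) (Fin n) F) * X *
      ((g.2⁻¹ : Matrix.GeneralLinearGroup (Fin m) F) : Matrix (Fin m) (Fin m) F) := rfl

theorem GU_conj_mul (hq : UF F q σ) {n : ℕ} {M : Matrix.GeneralLinearGroup (Fin n) F} (hM : M ∈ GU n F q) :
    ((M : Matrix (Fin n) (Fin n) F).map σ)ᵀ * (M : Matrix (Fin n) (Fin n) F) = 1 := by
  have h1 := congrArg transpose ((mem_GU_iff hq M).1 hM)
  rwa [transpose_mul, transpose_transpose, transpose_one] at h1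

theorem act_iso (hq : UF F q σ) {n m : ℕ} (g : Matrix.GeneralLinearGroup (Fin n) F × Matrix.GeneralLinearGroup (Fin m) F)
    (h1 : g.1 ∈ GU n F q) (h2 : g.2 ∈ GU m F q) : IsoM (mform σ n m) (act g) := by
  intro X Y
  have e1 := GU_conj_mul hq h1
  have e2 := GU_conj_mul hq ((GU m F q).inv_mem h2)
  rw [mul_eq_one_comm] at e2
  rw [mform_apply, mform_apply, act_apply, act_apply, Matrix.map_mul, Matrix.map_mul, transpose_mul, transpose_mul]
  set A := (g.1 : Matrix (Fin n) (Fin n) F)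
  set C := ((g.2⁻¹ : Matrix.GeneralLinearGroup (Fin m) F) : Matrix (Fin m) (Fin m) F)
  have e3 : A * X * C * ((C.map σ)ᵀ * ((Y.map σ)ᵀ * (A.map σ)ᵀ)) = (A * (X * (Y.map σ)ᵀ)) * (A.map σ)ᵀ := by
    have e4 : A * X * C * ((C.map σ)ᵀ * ((Y.map σ)ᵀ * (A.map σ)ᵀ)) = A * X * (C * (C.map σ)ᵀ) * ((Y.map σ)ᵀ * (A.map σ)ᵀ) := by
      simp only [Matrix.mul_assoc]
    rw [e4, e2, Matrix.mul_one]
    simp only [Matrix.mul_assoc]
  rw [e3, trace_mul_comm, ← Matrix.mul_assoc, e1, Matrix.one_mul]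

theorem fixS_act {n m : ℕ} (g : Matrix.GeneralLinearGroup (Fin n) F × Matrix.GeneralLinearGroup (Fin m) F) :
    fixS (act g) = homSp (g.1 : Matrix (Fin n) (Fin n) F) (g.2 : Matrix (Fin m) (Fin m) F) := by
  ext X
  rw [mem_fixS, mem_homSp, act_apply]
  constructor
  · intro h
    conv_rhs => rw [← h]
    rw [Matrix.mul_assoc, Units.inv_mul, Matrix.mul_one]
  · intro h
    rw [h, Matrix.mul_assoc, Units.mul_inv, Matrix.mul_one]

/-- **The Weil character of `GU_n × GU_m`**, Hom version. -/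
theorem weil_hom (hF : Nat.card F = q ^ 2) (hq0 : q ≠ 0) (n m : ℕ) :
    IsCharacter (GU n F q × GU m F q) (fun g => (-1 : ℂ) ^ (n * m) *
      (-(q : ℂ)) ^ Module.finrank F (homSp ((g.1 : Matrix.GeneralLinearGroup (Fin n) F) : Matrix (Fin n) (Fin n) F)
        ((g.2 : Matrix.GeneralLinearGroup (Fin m) F) : Matrix (Fin m) (Fin m) F))) := by
  obtain ⟨σ, hq⟩ := exists_frob hF hq0
  have hf := hq.finite
  have h1 := weil_isCharacter hq (mform_herm hq n m)
    ((act (F := F) (n := n) (m := m)).comp (MonoidHom.prodMap (GU n F q).subtype (GU m F q).subtype))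
    (fun g => act_iso hq _ g.1.2 g.2.2)
  convert h1 using 2 with g
  have e1 : Module.finrank F (Matrix (Fin n) (Fin m) F) = n * m := by
    rw [Module.finrank_matrix, Fintype.card_fin, Fintype.card_fin, Module.finrank_self, mul_one]
  rw [e1]
  congr 2
  show _ = Module.finrank F (fixS (act ((g.1 : Matrix.GeneralLinearGroup (Fin n) F), (g.2 : Matrix.GeneralLinearGroup (Fin m) F))))
  rw [fixS_act]

/-- entrywise `σ` on `GU` -/
def conjG (hq : UF F q σ) (m : ℕ) : GU m F q →* GU m F q :=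
  ((Matrix.GeneralLinearGroup.map σ).comp (GU m F q).subtype).codRestrict (GU m F q) (fun g => by
    rw [mem_GU_iff hq]
    have h1 := congrArg (fun M : Matrix (Fin m) (Fin m) F => M.map σ) ((mem_GU_iff hq _).1 g.2)
    simp only [Matrix.map_mul, transpose_map] at h1
    have h2 : (1 : Matrix (Fin m) (Fin m) F).map σ = 1 := Matrix.map_one σ (map_zero σ) (map_one σ)
    rw [h2] at h1
    exact h1)

theorem conjG_eq (hq : UF F q σ) {m : ℕ} (g : GU m F q) :
    (((conjG hq m g : GU m F q) : Matrix.GeneralLinearGroup (Fin m) F) : Matrix (Fin m) (Fin m) F) =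
      (((g : Matrix.GeneralLinearGroup (Fin m) F)⁻¹ : Matrix.GeneralLinearGroup (Fin m) F) : Matrix (Fin m) (Fin m) F)ᵀ := by
  have h1 := (mem_GU_iff hq _).1 g.2
  have h2 : ((g : Matrix.GeneralLinearGroup (Fin m) F) : Matrix (Fin m) (Fin m) F)ᵀ *
      (((g : Matrix.GeneralLinearGroup (Fin m) F)⁻¹ : Matrix.GeneralLinearGroup (Fin m) F) : Matrix (Fin m) (Fin m) F)ᵀ = 1 := by
    rw [← transpose_mul, Units.inv_mul, transpose_one]
  have h3 : (((g : Matrix.GeneralLinearGroup (Fin m) F)⁻¹ : Matrix.GeneralLinearGroup (Fin m) F) : Matrix (Fin m) (Fin m) F)ᵀ *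
      ((g : Matrix.GeneralLinearGroup (Fin m) F) : Matrix (Fin m) (Fin m) F)ᵀ = 1 := by
    rw [← transpose_mul, Units.mul_inv, transpose_one]
  show ((g : Matrix.GeneralLinearGroup (Fin m) F) : Matrix (Fin m) (Fin m) F).map σ = _
  calc _ = ((((g : Matrix.GeneralLinearGroup (Fin m) F)⁻¹ : Matrix.GeneralLinearGroup (Fin m) F) : Matrix (Fin m) (Fin m) F)ᵀ *
      ((g : Matrix.GeneralLinearGroup (Fin m) F) : Matrix (Fin m) (Fin m) F)ᵀ) *
        ((g : Matrix.GeneralLinearGroup (Fin m) F) : Matrix (Fin m) (Fin m) F).map σ := by rw [h3, Matrix.one_mul]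
    _ = _ := by rw [Matrix.mul_assoc, h1, Matrix.mul_one]

theorem finrank_homSp_transpose [Finite F] {n m : ℕ} (A : Matrix (Fin n) (Fin n) F) (C : Matrix (Fin m) (Fin m) F) :
    Module.finrank F (homSp A Cᵀ) = Module.finrank F (homSp A C) := by
  obtain ⟨P, hP⟩ := Cfsg.Agent.S2580.result C
  -- `P * C = Cᵀ * P`
  have h1 : (P : Matrix (Fin m) (Fin m) F) * C = Cᵀ * (P : Matrix (Fin m) (Fin m) F) := hP
  have h2 : C * ((P⁻¹ : (Matrix (Fin m) (Fin m) F)ˣ) : Matrix (Fin m) (Fin m) F) =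
      ((P⁻¹ : (Matrix (Fin m) (Fin m) F)ˣ) : Matrix (Fin m) (Fin m) F) * Cᵀ := by
    calc C * ((P⁻¹ : (Matrix (Fin m) (Fin m) F)ˣ) : Matrix (Fin m) (Fin m) F) =
        (((P⁻¹ : (Matrix (Fin m) (Fin m) F)ˣ) : Matrix (Fin m) (Fin m) F) * (P : Matrix (Fin m) (Fin m) F)) * C *
          ((P⁻¹ : (Matrix (Fin m) (Fin m) F)ˣ) : Matrix (Fin m) (Fin m) F) := by rw [Units.inv_mul, Matrix.one_mul]
      _ = ((P⁻¹ : (Matrix (Fin m) (Fin m) F)ˣ) : Matrix (Fin m) (Fin m) F) * ((P : Matrix (Fin m) (Fin m) F) * C) *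
          ((P⁻¹ : (Matrix (Fin m) (Fin m) F)ˣ) : Matrix (Fin m) (Fin m) F) := by simp only [Matrix.mul_assoc]
      _ = _ := by rw [h1, Matrix.mul_assoc, Matrix.mul_assoc, Units.mul_inv, Matrix.mul_one]
  refine LinearEquiv.finrank_eq
    { toFun := fun X => ⟨(X : Matrix (Fin n) (Fin m) F) * (P : Matrix (Fin m) (Fin m) F), ?_⟩
      invFun := fun X => ⟨(X : Matrix (Fin n) (Fin m) F) * ((P⁻¹ : (Matrix (Fin m) (Fin m) F)ˣ) : Matrix (Fin m) (Fin m) F), ?_⟩
      map_add' := fun X Y => Subtype.ext ?_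
      map_smul' := fun c X => Subtype.ext ?_
      left_inv := fun X => Subtype.ext ?_
      right_inv := fun X => Subtype.ext ?_ }
  · rw [mem_homSp, ← Matrix.mul_assoc, mem_homSp.1 X.2, Matrix.mul_assoc, Matrix.mul_assoc, h1]
  · exact Matrix.add_mul _ _ _
  · exact Matrix.smul_mul _ _ _
  · rw [mem_homSp, ← Matrix.mul_assoc, mem_homSp.1 X.2, Matrix.mul_assoc, Matrix.mul_assoc, h2]
  · show (X : Matrix (Fin n) (Fin m) F) * (P : Matrix (Fin m) (Fin m) F) * _ = _
    rw [Matrix.mul_assoc, Units.mul_inv, Matrix.mul_one]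
  · show (X : Matrix (Fin n) (Fin m) F) * ((P⁻¹ : (Matrix (Fin m) (Fin m) F)ˣ) : Matrix (Fin m) (Fin m) F) * _ = _
    rw [Matrix.mul_assoc, Units.inv_mul, Matrix.mul_one]

/-- **The Weil character of `GU_n × GU_m`**, Hom version with the inverse. -/
theorem weil_hom_inv (hF : Nat.card F = q ^ 2) (hq0 : q ≠ 0) (n m : ℕ) :
    IsCharacter (GU n F q × GU m F q) (fun g => (-1 : ℂ) ^ (n * m) *
      (-(q : ℂ)) ^ Module.finrank F (homSp ((g.1 : Matrix.GeneralLinearGroup (Fin n) F) : Matrix (Fin n) (Fin n) F)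
        (((g.2 : Matrix.GeneralLinearGroup (Fin m) F)⁻¹ : Matrix.GeneralLinearGroup (Fin m) F) : Matrix (Fin m) (Fin m) F))) := by
  obtain ⟨σ, hq⟩ := exists_frob hF hq0
  have hf := hq.finite
  have h1 := Characters.Core.isCharacter_comp (MonoidHom.prodMap (MonoidHom.id (GU n F q)) (conjG hq m)) (weil_hom hF hq0 n m)
  convert h1 using 2 with g
  show _ = (-1 : ℂ) ^ (n * m) * (-(q : ℂ)) ^ Module.finrank F (homSp ((g.1 : Matrix.GeneralLinearGroup (Fin n) F) :
    Matrix (Fin n) (Fin n) F) (((conjG hq m g.2 : GU m F q) : Matrix.GeneralLinearGroup (Fin m) F) : Matrix (Fin m) (Fin m) F))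
  rw [conjG_eq, finrank_homSp_transpose]

end Cfsg.Agent.H603.Weil
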