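import Mathlib

/-!
# Gauss sums of hermitian forms over `𝔽_{q²}` (helper603)

`F` a finite field with `q ^ 2` elements, `σ x = x ^ q`, `ψ` an additive character of `F` which is not trivial on
the elements of trace zero.

* `sum_norm` : `∑ c, ψ (c * σ c * t) = - q` for `t ≠ 0` of trace zero;
* `gauss` : the sum of `ψ (Φ x x)` over a finite `F`-space, `Φ` skew-hermitian, is `(-q) ^ m` for some `m`.
-/

set_option autoImplicit false
set_option linter.unusedSectionVars false

namespace Cfsg.Agent.H603.Weil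

universe u v

/-- `F` has `q ^ 2` elements and `σ` is the `q`-th power map. -/
structure UF (F : Type u) [Field F] (q : ℕ) (σ : F →+* F) : Prop where
  card : Nat.card F = q ^ 2
  frob : ∀ x, σ x = x ^ q

variable {F : Type u} [Field F] {q : ℕ} {σ : F →+* F}

namespace UF

theorem finite (h : UF F q σ) : Finite F := by
  by_contra hf
  rw [not_finite_iff_infinite] at hf
  have h1 := h.card
  rw [Nat.card_eq_zero_of_infinite] at h1
  have h2 : q = 0 := by
    rcases Nat.eq_zero_or_pos q with h2 | h2
    · exact h2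
    · have := Nat.pow_pos (n := 2) h2
      omega
  have h3 := h.frob 0
  rw [h2, pow_zero, map_zero] at h3
  exact zero_ne_one h3

theorem two_le (h : UF F q σ) : 2 ≤ q := by
  have hf := h.finite
  have h1 : 1 < Nat.card F := Finite.one_lt_card
  rw [h.card] at h1
  by_contra h2
  have h3 : q ≤ 1 := by omega
  have : q ^ 2 ≤ 1 ^ 2 := Nat.pow_le_pow_left h3 2
  omega

theorem invol (h : UF F q σ) (x : F) : σ (σ x) = x := by
  have hf := h.finite
  have := Fintype.ofFinite F
  rw [h.frob (σ x), h.frob x, ← pow_mul, ← sq, ← h.card, Nat.card_eq_fintype_card, FiniteField.pow_card]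

theorem norm_fix (h : UF F q σ) (x : F) : σ (x * σ x) = x * σ x := by
  rw [map_mul, h.invol, mul_comm]

open Polynomial in
theorem card_fix_le (h : UF F q σ) : Nat.card {y : F // y ≠ 0 ∧ σ y = y} ≤ q - 1 := by
  classical
  have hf := h.finite
  have := Fintype.ofFinite F
  have h2 := h.two_le
  have hp : (X ^ (q - 1) - C 1 : F[X]) ≠ 0 := X_pow_sub_C_ne_zero (by omega) 1
  rw [Nat.card_eq_fintype_card, Fintype.card_subtype]
  refine le_trans (Finset.card_le_card (t := (X ^ (q - 1) - C 1 : F[X]).roots.toFinset) ?_) ?_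
  · intro y hy
    rw [Finset.mem_filter] at hy
    rw [Multiset.mem_toFinset, mem_roots hp, IsRoot, eval_sub, eval_pow, eval_X, eval_C, sub_eq_zero]
    have h3 := hy.2.2
    rw [h.frob] at h3
    apply mul_right_cancel₀ hy.2.1
    rw [← pow_succ, one_mul]
    convert h3 using 2
    omega
  · refine le_trans (Multiset.toFinset_card_le _) ?_
    refine le_trans (card_roots' _) ?_
    rw [natDegree_X_pow_sub_C]

open Polynomial in
theorem card_fiber_le (h : UF F q σ) (y : F) : Nat.card {c : F // c * σ c = y} ≤ q + 1 := by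
  classical
  have hf := h.finite
  have := Fintype.ofFinite F
  have h2 := h.two_le
  have hp : (X ^ (q + 1) - C y : F[X]) ≠ 0 := X_pow_sub_C_ne_zero (by omega) y
  rw [Nat.card_eq_fintype_card, Fintype.card_subtype]
  refine le_trans (Finset.card_le_card (t := (X ^ (q + 1) - C y : F[X]).roots.toFinset) ?_) ?_
  · intro c hc
    rw [Finset.mem_filter] at hc
    rw [Multiset.mem_toFinset, mem_roots hp, IsRoot, eval_sub, eval_pow, eval_X, eval_C, sub_eq_zero]
    have h3 := hc.2
    rw [h.frob] at h3
    rw [pow_succ, mul_comm]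
    exact h3
  · refine le_trans (Multiset.toFinset_card_le _) ?_
    refine le_trans (card_roots' _) ?_
    rw [natDegree_X_pow_sub_C]

/-- The fibres of the norm have `q + 1` elements. -/
theorem card_fiber (h : UF F q σ) {y : F} (hy : y ≠ 0) (hy' : σ y = y) : Nat.card {c : F // c * σ c = y} = q + 1 := by
  classical
  have hf := h.finite
  have := Fintype.ofFinite F
  have h2 := h.two_le
  let A : Finset F := Finset.univ.filter fun y => y ≠ 0 ∧ σ y = y
  let S : Finset F := Finset.univ.filter fun c => c ≠ 0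
  have hmap : ∀ c ∈ S, c * σ c ∈ A := by
    intro c hc
    rw [Finset.mem_filter] at hc ⊢
    refine ⟨Finset.mem_univ _, mul_ne_zero hc.2 ?_, h.norm_fix c⟩
    rw [Ne, map_eq_zero]
    exact hc.2
  have h3 := Finset.card_eq_sum_card_fiberwise hmap
  have hS : S.card = q ^ 2 - 1 := by
    have : S = Finset.univ.erase 0 := by
      ext c
      simp [S]
    rw [this, Finset.card_erase_of_mem (Finset.mem_univ _), Finset.card_univ, ← Nat.card_eq_fintype_card, h.card]
  have hA : A.card ≤ q - 1 := by
    have := h.card_fix_le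
    rwa [Nat.card_eq_fintype_card, Fintype.card_subtype] at this
  have hfib : ∀ y : F, y ≠ 0 → (S.filter fun c => c * σ c = y).card = Nat.card {c : F // c * σ c = y} := by
    intro y hy
    rw [Nat.card_eq_fintype_card, Fintype.card_subtype]
    congr 1
    ext c
    simp only [S, Finset.mem_filter, Finset.mem_univ, true_and, and_iff_right_iff_imp]
    rintro rfl rfl
    exact hy (zero_mul _)
  have hle : ∀ y ∈ A, (S.filter fun c => c * σ c = y).card ≤ q + 1 := by
    intro y hy
    rw [Finset.mem_filter] at hy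
    rw [hfib y hy.2.1]
    exact h.card_fiber_le y
  have h4 : ∑ y ∈ A, (S.filter fun c => c * σ c = y).card = ∑ y ∈ A, (q + 1) := by
    apply le_antisymm (Finset.sum_le_sum hle)
    rw [← h3, hS, Finset.sum_const, smul_eq_mul]
    calc A.card * (q + 1) ≤ (q - 1) * (q + 1) := Nat.mul_le_mul_right _ hA
      _ = q ^ 2 - 1 := by
        obtain ⟨r, rfl⟩ : ∃ r, q = r + 2 := ⟨q - 2, by omega⟩
        have h5 : (r + 2) ^ 2 = (r + 2 - 1) * (r + 2 + 1) + 1 := by
          have : r + 2 - 1 = r + 1 := by omega
          rw [this]; ring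
        omega
  have h5 := (Finset.sum_eq_sum_iff_of_le hle).1 h4 y (by
    rw [Finset.mem_filter]
    exact ⟨Finset.mem_univ _, hy, hy'⟩)
  rw [← hfib y hy, h5]

theorem exists_ne (h : UF F q σ) : ∃ c : F, σ c ≠ c := by
  classical
  have hf := h.finite
  have := Fintype.ofFinite F
  by_contra hh
  push Not at hh
  have h1 := h.card_fix_le
  have h2 : Nat.card {y : F // y ≠ 0 ∧ σ y = y} = q ^ 2 - 1 := by
    rw [Nat.card_eq_fintype_card, Fintype.card_subtype]
    have : (Finset.univ.filter fun y : F => y ≠ 0 ∧ σ y = y) = Finset.univ.erase 0 := by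
      ext c
      simp [hh c]
    rw [this, Finset.card_erase_of_mem (Finset.mem_univ _), Finset.card_univ, ← Nat.card_eq_fintype_card, h.card]
  have h3 := h.two_le
  rw [h2] at h1
  have h4 : q * 2 ≤ q ^ 2 := by
    rw [sq]
    exact Nat.mul_le_mul_left q h3
  omega

/-- `c ↦ c - σ c` is onto the elements of trace zero. -/
theorem exists_sub (h : UF F q σ) {s : F} (hs : σ s = -s) : ∃ c : F, c - σ c = s := by
  obtain ⟨c, hc⟩ := h.exists_ne
  have h1 : c - σ c ≠ 0 := fun h0 => hc (sub_eq_zero.1 h0).symm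
  have h2 : σ (c - σ c) = -(c - σ c) := by
    rw [map_sub, h.invol, neg_sub]
  refine ⟨s / (c - σ c) * c, ?_⟩
  rw [map_mul, map_div₀, hs, h2, neg_div_neg_eq, ← mul_sub, div_mul_cancel₀ _ h1]

/-- There is an additive character which is nontrivial on the elements of trace zero. -/
theorem exists_char (h : UF F q σ) : ∃ ψ : AddChar F ℂ, ∃ s, σ s = -s ∧ ψ s ≠ 1 := by
  classical
  have hf := h.finite
  have := Fintype.ofFinite F
  obtain ⟨c, hc⟩ := h.exists_ne
  have h1 : c - σ c ≠ 0 := fun h0 => hc (sub_eq_zero.1 h0).symm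
  obtain ⟨ψ, hψ⟩ := (AddChar.exists_apply_ne_zero (α := F) (a := c - σ c)).2 h1
  exact ⟨ψ, c - σ c, by rw [map_sub, h.invol, neg_sub], hψ⟩

/-- The sum of a character of the form `y ↦ ψ (y t)` over the fixed field. -/
theorem sum_fix (_h : UF F q σ) [Fintype F] [DecidableEq F] (ψ : AddChar F ℂ) (hψ : ∃ s, σ s = -s ∧ ψ s ≠ 1) {t : F} (ht : σ t = -t)
    (ht0 : t ≠ 0) : ∑ y : F with σ y = y, ψ (y * t) = 0 := by
  obtain ⟨s, hs, hs1⟩ := hψ
  set y₀ : F := s / t with hy₀
  have hfix : σ y₀ = y₀ := by
    rw [hy₀, map_div₀, hs, ht, neg_div_neg_eq]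
  have h1 : y₀ * t = s := div_mul_cancel₀ s ht0
  have h2 : ∑ y : F with σ y = y, ψ (y * t) = ψ s * ∑ y : F with σ y = y, ψ (y * t) := by
    rw [Finset.mul_sum]
    refine Finset.sum_bij' (fun y _ => y - y₀) (fun y _ => y + y₀) ?_ ?_ ?_ ?_ ?_
    · intro y hy
      rw [Finset.mem_filter] at hy ⊢
      exact ⟨Finset.mem_univ _, by rw [map_sub, hy.2, hfix]⟩
    · intro y hy
      rw [Finset.mem_filter] at hy ⊢
      exact ⟨Finset.mem_univ _, by rw [map_add, hy.2, hfix]⟩
    · intro y _
      exact sub_add_cancel _ _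
    · intro y _
      exact add_sub_cancel_right _ _
    · intro y _
      rw [← AddChar.map_add_eq_mul, ← h1]
      congr 1
      ring
  have h3 : (1 - ψ s) * ∑ y : F with σ y = y, ψ (y * t) = 0 := by
    rw [sub_mul, one_mul, ← h2, sub_self]
  rcases mul_eq_zero.1 h3 with h4 | h4
  · exact absurd (sub_eq_zero.1 h4).symm hs1
  · exact h4

/-- **The one dimensional Gauss sum.** -/
theorem sum_norm (h : UF F q σ) [Fintype F] (ψ : AddChar F ℂ) (hψ : ∃ s, σ s = -s ∧ ψ s ≠ 1) {t : F} (ht : σ t = -t)
    (ht0 : t ≠ 0) : ∑ c : F, ψ (c * σ c * t) = -(q : ℂ) := by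
  classical
  have h1 : ∑ c : F, ψ (c * σ c * t) = ∑ y : F with σ y = y, ∑ c : F with c * σ c = y, ψ (c * σ c * t) := by
    symm
    refine Finset.sum_fiberwise_of_maps_to (g := fun c => c * σ c) ?_ _
    intro c _
    rw [Finset.mem_filter]
    exact ⟨Finset.mem_univ _, h.norm_fix c⟩
  have h2 : ∀ y ∈ (Finset.univ.filter fun y : F => σ y = y),
      ∑ c : F with c * σ c = y, ψ (c * σ c * t) = (if y = 0 then 1 else (q + 1 : ℂ)) * ψ (y * t) := by
    intro y hy
    rw [Finset.mem_filter] at hy
    have h3 : ∑ c : F with c * σ c = y, ψ (c * σ c * t) = ∑ c : F with c * σ c = y, ψ (y * t) := by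
      refine Finset.sum_congr rfl fun c hc => ?_
      rw [Finset.mem_filter] at hc
      rw [hc.2]
    rw [h3, Finset.sum_const, nsmul_eq_mul]
    congr 1
    by_cases hy0 : y = 0
    · rw [if_pos hy0, hy0]
      have : (Finset.univ.filter fun c : F => c * σ c = 0) = {0} := by
        ext c
        simp
      rw [this, Finset.card_singleton, Nat.cast_one]
    · rw [if_neg hy0]
      have h4 := h.card_fiber hy0 hy.2
      rw [Nat.card_eq_fintype_card, Fintype.card_subtype] at h4
      rw [h4]
      push_cast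
      ring
  rw [h1, Finset.sum_congr rfl h2]
  have h0 : (0 : F) ∈ (Finset.univ.filter fun y : F => σ y = y) := by
    rw [Finset.mem_filter]
    exact ⟨Finset.mem_univ _, map_zero σ⟩
  have h5 := h.sum_fix ψ hψ ht ht0
  rw [← Finset.add_sum_erase _ _ h0] at h5 ⊢
  rw [zero_mul, AddChar.map_zero_eq_one] at h5 ⊢
  rw [if_pos rfl, mul_one]
  have h6 : ∑ y ∈ (Finset.univ.filter fun y : F => σ y = y).erase 0, (if y = 0 then 1 else (q + 1 : ℂ)) * ψ (y * t) =
      (q + 1) * ∑ y ∈ (Finset.univ.filter fun y : F => σ y = y).erase 0, ψ (y * t) := by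
    rw [Finset.mul_sum]
    refine Finset.sum_congr rfl fun y hy => ?_
    rw [if_neg (Finset.ne_of_mem_erase hy)]
  rw [h6]
  have h7 : ∑ y ∈ (Finset.univ.filter fun y : F => σ y = y).erase 0, ψ (y * t) = -1 := by
    linear_combination h5
  rw [h7]
  ring

end UF

/-- **Gauss sums of skew-hermitian forms.** -/
theorem gauss (h : UF F q σ) (ψ : AddChar F ℂ) (hψ : ∃ s, σ s = -s ∧ ψ s ≠ 1) (N : ℕ) :
    ∀ (K : Type v) [AddCommGroup K] [Module F K] [Fintype K] (Φ : K → K → F), Fintype.card K = N →
      (∀ x y z, Φ (x + y) z = Φ x z + Φ y z) → (∀ (a : F) x y, Φ (a • x) y = a * Φ x y) →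
      (∀ x y, σ (Φ x y) = -Φ y x) → ∃ m : ℕ, ∑ x, ψ (Φ x x) = (-(q : ℂ)) ^ m := by
  classical
  have hf := h.finite
  have := Fintype.ofFinite F
  induction N using Nat.strong_induction_on with
  | _ N ih =>
    intro K _ _ _ Φ hN hadd hsm hsk
    have haddr : ∀ x y z, Φ x (y + z) = Φ x y + Φ x z := by
      intro x y z
      have h1 : ∀ a b : K, Φ a b = -σ (Φ b a) := fun a b => by rw [hsk, neg_neg]
      rw [h1, hadd, map_add, neg_add, ← h1, ← h1]
    have hsmr : ∀ (a : F) x y, Φ x (a • y) = σ a * Φ x y := by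
      intro a x y
      have h1 : ∀ a b : K, Φ a b = -σ (Φ b a) := fun a b => by rw [hsk, neg_neg]
      rw [h1, hsm, map_mul, h1 x y, mul_neg]
    by_cases hz : ∀ x, Φ x x = 0
    · have h1 : ∑ x : K, ψ (Φ x x) = (Fintype.card K : ℂ) := by
        rw [Finset.sum_congr rfl (fun x _ => by rw [hz x, AddChar.map_zero_eq_one]), Finset.sum_const,
          Finset.card_univ, nsmul_eq_mul, mul_one]
      have h2 : Fintype.card K = Fintype.card F ^ (Module.finrank F K) := Module.card_eq_pow_finrank
      refine ⟨2 * Module.finrank F K, ?_⟩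
      rw [h1, h2, ← Nat.card_eq_fintype_card, h.card, pow_mul, neg_sq]
      push_cast
      rfl
    · push Not at hz
      obtain ⟨a, ha⟩ := hz
      let L : K →ₗ[F] F :=
        { toFun := fun z => Φ z a
          map_add' := fun x y => hadd x y a
          map_smul' := fun c x => by rw [hsm, smul_eq_mul, RingHom.id_apply] }
      let S : Submodule F K := LinearMap.ker L
      have hS : ∀ z : S, Φ (z : K) a = 0 := fun z => z.2
      have hS' : ∀ z : S, Φ a (z : K) = 0 := fun z => by
        have h1 := hsk (z : K) a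
        rw [hS, map_zero] at h1
        rw [← neg_eq_zero]
        exact h1.symm
      let e : F × S ≃ K :=
        { toFun := fun p => p.1 • a + (p.2 : K)
          invFun := fun z => (Φ z a / Φ a a, ⟨z - (Φ z a / Φ a a) • a, by
            show Φ (z - (Φ z a / Φ a a) • a) a = 0
            rw [sub_eq_add_neg, ← neg_smul, hadd, hsm, neg_mul, div_mul_cancel₀ _ ha, add_neg_cancel]⟩)
          left_inv := fun p => by
            have h1 : Φ (p.1 • a + (p.2 : K)) a / Φ a a = p.1 := by
              rw [hadd, hsm, hS, add_zero, mul_div_cancel_right₀ _ ha]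
            apply Prod.ext
            · exact h1
            · apply Subtype.ext
              show p.1 • a + (p.2 : K) - (Φ (p.1 • a + (p.2 : K)) a / Φ a a) • a = (p.2 : K)
              rw [h1, add_sub_cancel_left]
          right_inv := fun z => by
            show (Φ z a / Φ a a) • a + (z - (Φ z a / Φ a a) • a) = z
            abel }
      have hcard : Fintype.card S < N := by
        rw [← hN]
        refine Fintype.card_lt_of_injective_of_notMem (fun z : S => (z : K)) Subtype.val_injective (b := a) ?_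
        rintro ⟨z, hz⟩
        have h1 := hS z
        have h2 : (z : K) = a := hz
        rw [h2] at h1
        exact ha h1
      obtain ⟨m, hm⟩ := ih (Fintype.card S) hcard S (fun x y => Φ (x : K) (y : K)) rfl
        (fun x y z => hadd _ _ _) (fun c x y => hsm _ _ _) (fun x y => hsk _ _)
      refine ⟨m + 1, ?_⟩
      rw [← Equiv.sum_comp e, Fintype.sum_prod_type]
      have h3 : ∀ (c : F) (z : S), ψ (Φ (e (c, z)) (e (c, z))) = ψ (c * σ c * Φ a a) * ψ (Φ (z : K) (z : K)) := by
        intro c z
        rw [← AddChar.map_add_eq_mul]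
        congr 1
        show Φ (c • a + (z : K)) (c • a + (z : K)) = _
        rw [hadd, haddr, haddr, hsm, hsm, hsmr, hsmr, hS, hS']
        ring
      have h4 : ∀ c : F, ∑ z : S, ψ (Φ (e (c, z)) (e (c, z))) = ψ (c * σ c * Φ a a) * (-(q : ℂ)) ^ m := by
        intro c
        rw [← hm, Finset.mul_sum]
        exact Finset.sum_congr rfl fun z _ => h3 c z
      rw [Finset.sum_congr rfl (fun c _ => h4 c), ← Finset.sum_mul, h.sum_norm ψ hψ (hsk a a) ha, pow_succ, mul_comm]

end Cfsg.Agent.H603.Weil
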