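import Cfsg.Agent.Characters.Core
import Cfsg.Agent.Characters.Central

/-!
# The Heisenberg group of a sesquilinear form (helper603)

`Hs B` : the group `V × F` with `(v, t) (w, u) = (v + w, t + u + B v w)`; `SV` : an irreducible representation on which
`(0, t)` acts as `ψ t`; its trace vanishes off the centre and its degree squared is `|V|`.
-/

set_option autoImplicit false
set_option linter.unusedSectionVars false

namespace Cfsg.Agent.H603.Weil

open Cfsg Representation

universe u v

variable {F : Type u} [Field F] {V : Type v} [AddCommGroup V]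

/-- The Heisenberg group of `B`. -/
@[ext] structure Hs (B : V →+ V →+ F) where
  /-- the vector -/
  v : V
  /-- the central coordinate -/
  t : F

namespace Hs

variable {B : V →+ V →+ F}

instance : Mul (Hs B) := ⟨fun x y => ⟨x.v + y.v, x.t + y.t + B x.v y.v⟩⟩
instance : One (Hs B) := ⟨⟨0, 0⟩⟩
instance : Inv (Hs B) := ⟨fun x => ⟨-x.v, -x.t + B x.v x.v⟩⟩

@[simp] theorem mul_v (x y : Hs B) : (x * y).v = x.v + y.v := rfl
@[simp] theorem mul_t (x y : Hs B) : (x * y).t = x.t + y.t + B x.v y.v := rfl
@[simp] theorem one_v : (1 : Hs B).v = 0 := rfl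
@[simp] theorem one_t : (1 : Hs B).t = 0 := rfl
@[simp] theorem inv_v (x : Hs B) : (x⁻¹).v = -x.v := rfl
@[simp] theorem inv_t (x : Hs B) : (x⁻¹).t = -x.t + B x.v x.v := rfl

instance : Group (Hs B) :=
  Group.ofLeftAxioms
    (fun x y z => by
      ext
      · simp [add_assoc]
      · simp only [mul_t, mul_v, map_add, AddMonoidHom.add_apply]; ring)
    (fun x => by
      ext
      · simp
      · simp)
    (fun x => by
      ext
      · simp
      · simp)

/-- underlying set -/
def equiv : Hs B ≃ V × F where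
  toFun x := (x.v, x.t)
  invFun p := ⟨p.1, p.2⟩
  left_inv _ := rfl
  right_inv _ := rfl

instance [Finite V] [Finite F] : Finite (Hs B) := Finite.of_equiv _ equiv.symm

theorem card_eq : Nat.card (Hs B) = Nat.card V * Nat.card F := by
  rw [Nat.card_congr equiv, Nat.card_prod]

/-- the section -/
def d (B : V →+ V →+ F) (v : V) : Hs B := ⟨v, 0⟩

/-- the centre -/
def z (B : V →+ V →+ F) (t : F) : Hs B := ⟨0, t⟩

@[simp] theorem d_v (v : V) : (d B v).v = v := rfl
@[simp] theorem d_t (v : V) : (d B v).t = 0 := rfl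
@[simp] theorem z_v (t : F) : (z B t).v = 0 := rfl
@[simp] theorem z_t (t : F) : (z B t).t = t := rfl

theorem z_mul (t : F) (x : Hs B) : z B t * x = ⟨x.v, t + x.t⟩ := by
  ext
  · simp
  · simp

/-- the big representation -/
noncomputable def bigRep (B : V →+ V →+ F) (ψ : AddChar F ℂ) : Representation ℂ (Hs B) (V → ℂ) where
  toFun x :=
    { toFun := fun f y => ψ (x.t + B y x.v) * f (y + x.v)
      map_add' := fun f g => by
        funext y
        simp only [Pi.add_apply, mul_add]
      map_smul' := fun c f => by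
        funext y
        simp only [Pi.smul_apply, smul_eq_mul, RingHom.id_apply]
        ring }
  map_one' := by
    refine LinearMap.ext fun f => ?_
    funext y
    show ψ ((1 : Hs B).t + B y (1 : Hs B).v) * f (y + (1 : Hs B).v) = f y
    rw [one_t, one_v, map_zero, add_zero, add_zero, AddChar.map_zero_eq_one, one_mul]
  map_mul' x y := by
    refine LinearMap.ext fun f => ?_
    funext w
    show ψ ((x * y).t + B w (x * y).v) * f (w + (x * y).v) =
      ψ (x.t + B w x.v) * (ψ (y.t + B (w + x.v) y.v) * f (w + x.v + y.v))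
    rw [← mul_assoc, ← AddChar.map_add_eq_mul, mul_t, mul_v, add_assoc w]
    congr 2
    rw [map_add, map_add, AddMonoidHom.add_apply]
    ring

end Hs

variable {B : V →+ V →+ F}

open Hs

/-- The irreducible representation. -/
structure SV (ψ : AddChar F ℂ) {W : Type v} [AddCommGroup W] [Module ℂ W] (R : Representation ℂ (Hs B) W) : Prop where
  irr : R.IsIrreducible
  cen : ∀ t, R (z B t) = ψ t • (1 : Module.End ℂ W)

theorem exists_sv [Finite V] (B : V →+ V →+ F) (ψ : AddChar F ℂ) :
    ∃ U : Submodule ℂ (V → ℂ), ∃ R : Representation ℂ (Hs B) U, SV ψ R := by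
  have : Fintype V := Fintype.ofFinite V
  have : Nonempty V := ⟨0⟩
  obtain ⟨U, hU⟩ := Characters.Core.exists_irreducible_sub (bigRep B ψ)
  refine ⟨U.toSubmodule, U.toRepresentation, hU, fun t => ?_⟩
  refine LinearMap.ext fun f => ?_
  apply Subtype.ext
  funext y
  show ψ ((z B t).t + B y (z B t).v) * (f : V → ℂ) (y + (z B t).v) = ψ t * (f : V → ℂ) y
  rw [z_v, z_t, map_zero, add_zero, add_zero]

namespace SV

variable {ψ : AddChar F ℂ} {W : Type v} [AddCommGroup W] [Module ℂ W] [FiniteDimensional ℂ W]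
  {R : Representation ℂ (Hs B) W}

theorem rep_z_mul (h : SV ψ R) (t : F) (x : Hs B) : R (z B t * x) = ψ t • R x := by
  rw [map_mul, h.cen, smul_mul_assoc, one_mul]

/-- the trace vanishes off the centre -/
theorem trace_eq_zero (h : SV ψ R) (hnd : ∀ v : V, v ≠ 0 → ∃ w, ψ (B w v - B v w) ≠ 1) {x : Hs B} (hx : x.v ≠ 0) :
    LinearMap.trace ℂ W (R x) = 0 := by
  obtain ⟨w, hw⟩ := hnd x.v hx
  have h1 : d B w * x * (d B w)⁻¹ = z B (B w x.v - B x.v w) * x := by
    ext
    · simp
    · simp only [mul_t, mul_v, d_v, d_t, inv_v, inv_t, map_add, map_neg, AddMonoidHom.add_apply, z_t, z_v, map_zero,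
        AddMonoidHom.zero_apply]
      ring
  have h2 : LinearMap.trace ℂ W (R (d B w * x * (d B w)⁻¹)) = LinearMap.trace ℂ W (R x) := by
    rw [map_mul, LinearMap.trace_mul_comm, ← map_mul]
    congr 2
    group
  rw [h1, h.rep_z_mul, map_smul, smul_eq_mul] at h2
  have h3 : (ψ (B w x.v - B x.v w) - 1) * LinearMap.trace ℂ W (R x) = 0 := by
    rw [sub_mul, one_mul, h2, sub_self]
  rcases mul_eq_zero.1 h3 with h4 | h4
  · exact absurd (sub_eq_zero.1 h4) hw
  · exact h4

theorem trace_z (h : SV ψ R) {x : Hs B} (hx : x.v = 0) :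
    LinearMap.trace ℂ W (R x) = Module.finrank ℂ W * ψ x.t := by
  have h1 : x = z B x.t := by
    ext
    · exact hx
    · rfl
  rw [h1, h.cen, map_smul, LinearMap.trace_one, smul_eq_mul, mul_comm]
  rfl

/-- `n ^ 2 = |V|` -/
theorem finrank_sq [Finite V] [Finite F] (h : SV ψ R) (hnd : ∀ v : V, v ≠ 0 → ∃ w, ψ (B w v - B v w) ≠ 1) :
    Module.finrank ℂ W ^ 2 = Nat.card V := by
  classical
  have : Fintype V := Fintype.ofFinite V
  have : Fintype F := Fintype.ofFinite F
  have : Fintype (Hs B) := Fintype.ofFinite _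
  have hirr : IsIrrCharacter (Hs B) R.character := Characters.Core.isIrrCharacter_of_rep R h.irr
  have h1 := Characters.Core.classInner_irr_self hirr
  rw [Characters.Core.classInner_def] at h1
  have h2 : ∀ x : Hs B, R.character x * starRingEnd ℂ (R.character x) =
      if x.v = 0 then (Module.finrank ℂ W : ℂ) ^ 2 else 0 := by
    intro x
    rw [← Characters.Core.isCharacter_apply_inv (Characters.Core.isIrr_isCharacter hirr)]
    by_cases hx : x.v = 0
    · rw [if_pos hx]
      show LinearMap.trace ℂ W (R x) * LinearMap.trace ℂ W (R x⁻¹) = _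
      rw [h.trace_z hx, h.trace_z (show (x⁻¹).v = 0 by rw [inv_v, hx, neg_zero]), inv_t, hx, map_zero, add_zero,
        AddChar.map_neg_eq_inv]
      have h3 : ψ x.t ≠ 0 := fun h0 => by
        have := ψ.map_add_eq_mul x.t (-x.t)
        rw [add_neg_cancel, AddChar.map_zero_eq_one, h0, zero_mul] at this
        exact one_ne_zero this
      field_simp
    · rw [if_neg hx]
      show LinearMap.trace ℂ W (R x) * _ = 0
      rw [h.trace_eq_zero hnd hx, zero_mul]
  rw [Finset.sum_congr rfl (fun x _ => h2 x), ← Equiv.sum_comp (Hs.equiv (B := B)).symm, Fintype.sum_prod_type] at h1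
  have h4 : ∀ v : V, ∑ t : F, (if ((Hs.equiv (B := B)).symm (v, t)).v = 0 then (Module.finrank ℂ W : ℂ) ^ 2 else 0) =
      if v = 0 then (Nat.card F : ℂ) * (Module.finrank ℂ W : ℂ) ^ 2 else 0 := by
    intro v
    have h5 : ∀ t : F, ((Hs.equiv (B := B)).symm (v, t)).v = v := fun _ => rfl
    simp only [h5]
    by_cases hv : v = 0
    · simp [hv]
    · simp [hv]
  rw [Finset.sum_congr rfl (fun v _ => h4 v), Finset.sum_ite_eq' Finset.univ (0 : V), if_pos (Finset.mem_univ _),
    Hs.card_eq] at h1
  have hF : (Nat.card F : ℂ) ≠ 0 := by exact_mod_cast Nat.card_pos.ne'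
  have hV : (Nat.card V : ℂ) ≠ 0 := by
    have : Nonempty V := ⟨0⟩
    exact_mod_cast Nat.card_pos.ne'
  have h6 : ((Module.finrank ℂ W ^ 2 : ℕ) : ℂ) = (Nat.card V : ℕ) := by
    push_cast at h1 ⊢
    field_simp at h1
    exact h1
  exact_mod_cast h6

end SV

end Cfsg.Agent.H603.Weil
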