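import Cfsg.Agent.H603.Weil.Gauss
import Cfsg.Agent.H603.Weil.Heis

/-!
# The Weil character of a finite unitary group (helper603)

`weil_isCharacter` : `G` acting by isometries on a nondegenerate hermitian space `V` over `𝔽_{q²}`, the function
`(-1) ^ dim V * (-q) ^ dim ker (g - 1)` is a character of `G`.
-/

set_option autoImplicit false
set_option linter.unusedSectionVars false

namespace Cfsg.Agent.H603.Weil

open Cfsg Representation Hs

universe u v

variable {F : Type u} [Field F] {V : Type v} [AddCommGroup V] [Module F V] {q : ℕ} {σ : F →+* F}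

/-- A nondegenerate hermitian form (linear in the first variable). -/
structure Herm (σ : F →+* F) (B : V →+ V →+ F) : Prop where
  smul_left : ∀ (a : F) x y, B (a • x) y = a * B x y
  symm : ∀ x y, σ (B x y) = B y x
  nondeg : ∀ x, (∀ y, B x y = 0) → x = 0

/-- isometry -/
def IsoM (B : V →+ V →+ F) (a : V ≃ₗ[F] V) : Prop := ∀ x y, B (a x) (a y) = B x y

theorem IsoM.mul {B : V →+ V →+ F} {a b : V ≃ₗ[F] V} (ha : IsoM B a) (hb : IsoM B b) : IsoM B (a * b) := fun x y => by
  rw [LinearEquiv.mul_apply, LinearEquiv.mul_apply, ha, hb]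

theorem IsoM.inv {B : V →+ V →+ F} {a : V ≃ₗ[F] V} (ha : IsoM B a) : IsoM B a⁻¹ := fun x y => by
  have h1 := ha (a⁻¹ x) (a⁻¹ y)
  rw [← LinearEquiv.mul_apply, ← LinearEquiv.mul_apply, mul_inv_cancel] at h1
  exact h1.symm

/-- the fixed space -/
def fixS (a : V ≃ₗ[F] V) : Submodule F V := LinearMap.ker ((a : V →ₗ[F] V) - 1)

theorem mem_fixS {a : V ≃ₗ[F] V} {x : V} : x ∈ fixS a ↔ a x = x := by
  unfold fixS
  rw [LinearMap.mem_ker, LinearMap.sub_apply, sub_eq_zero]
  rfl

theorem fixS_inv (a : V ≃ₗ[F] V) : fixS a⁻¹ = fixS a := by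
  ext x
  rw [mem_fixS, mem_fixS]
  constructor
  · intro h
    conv_lhs => rw [← h]
    rw [← LinearEquiv.mul_apply, mul_inv_cancel]
    rfl
  · intro h
    conv_lhs => rw [← h]
    rw [← LinearEquiv.mul_apply, inv_mul_cancel]
    rfl

theorem Herm.smul_right {B : V →+ V →+ F} (hB : Herm σ B) (a : F) (x y : V) :
    B x (a • y) = σ a * B x y := by
  have h1 : ∀ x y, B x y = σ (B y x) := fun x y => (hB.symm y x).symm
  rw [h1, hB.smul_left, map_mul, ← h1]

variable {B : V →+ V →+ F} {ψ : AddChar F ℂ} {W : Type v} [AddCommGroup W] [Module ℂ W] [FiniteDimensional ℂ W]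

/-- the intertwiner -/
noncomputable def E [Fintype V] (R : Representation ℂ (Hs B) W) (a : V ≃ₗ[F] V) : Module.End ℂ W :=
  ∑ v : V, R (d B (a v) * (d B v)⁻¹)

/-- action on the Heisenberg group -/
def am (a : V ≃ₗ[F] V) (x : Hs B) : Hs B := ⟨a x.v, x.t⟩

theorem E_mul_rep [Fintype V] (R : Representation ℂ (Hs B) W) {a : V ≃ₗ[F] V} (ha : IsoM B a) (x : Hs B) :
    E R a * R x = R (am a x) * E R a := by
  unfold E
  rw [Finset.sum_mul, Finset.mul_sum, ← Equiv.sum_comp (Equiv.addLeft x.v)]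
  refine Finset.sum_congr rfl fun v _ => ?_
  rw [← map_mul, ← map_mul]
  congr 1
  ext
  · simp only [Equiv.coe_addLeft, mul_v, d_v, inv_v, map_add, am]
    abel
  · have h1 := ha x.v v
    simp only [Equiv.coe_addLeft, mul_v, mul_t, d_v, d_t, inv_v, inv_t, map_add, map_neg, AddMonoidHom.add_apply,
      AddMonoidHom.neg_apply, am, neg_add]
    rw [h1]
    ring

theorem E_inv [Fintype V] (R : Representation ℂ (Hs B) W) (a : V ≃ₗ[F] V) :
    E R a⁻¹ = ∑ v : V, R (d B (a v) * (d B v)⁻¹)⁻¹ := by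
  unfold E
  rw [← Equiv.sum_comp a.toEquiv]
  refine Finset.sum_congr rfl fun v _ => ?_
  congr 1
  rw [mul_inv_rev, inv_inv]
  congr 2
  show a⁻¹ (a v) = v
  rw [← LinearEquiv.mul_apply, inv_mul_cancel]
  rfl

theorem E_one [Fintype V] (R : Representation ℂ (Hs B) W) : E R 1 = (Fintype.card V : ℂ) • (1 : Module.End ℂ W) := by
  unfold E
  have h1 : ∀ v : V, R (d B ((1 : V ≃ₗ[F] V) v) * (d B v)⁻¹) = 1 := by
    intro v
    have : (1 : V ≃ₗ[F] V) v = v := rfl
    rw [this, mul_inv_cancel, map_one]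
  rw [Finset.sum_congr rfl (fun v _ => h1 v), Finset.sum_const, Finset.card_univ, ← Nat.cast_smul_eq_nsmul ℂ]

/-- the pairs with `(a - 1) v + (b - 1) w = 0` -/
def KK (a b : V ≃ₗ[F] V) : Submodule F (V × V) :=
  LinearMap.ker ((((a : V →ₗ[F] V) - 1).comp (LinearMap.fst F V V)) + (((b : V →ₗ[F] V) - 1).comp (LinearMap.snd F V V)))

theorem mem_KK {a b : V ≃ₗ[F] V} {z : V × V} : z ∈ KK a b ↔ (a z.1 - z.1) + (b z.2 - z.2) = 0 := Iff.rfl

/-- the form on `KK a b` -/
def Ph (B : V →+ V →+ F) (a b : V ≃ₗ[F] V) (z z' : KK a b) : F := B (a z.1.1 - z.1.1) (z'.1.2 - a z'.1.1)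

theorem Ph_skew (hB : Herm σ B) {a b : V ≃ₗ[F] V} (ha : IsoM B a) (hb : IsoM B b) (z z' : KK a b) :
    σ (Ph B a b z z') = -Ph B a b z' z := by
  obtain ⟨⟨v, w⟩, hz⟩ := z
  obtain ⟨⟨v', w'⟩, hz'⟩ := z'
  rw [mem_KK] at hz hz'
  unfold Ph
  rw [hB.symm]
  simp only at hz hz' ⊢
  have e1 : a v - v = w - b w := by
    rw [← sub_eq_zero]
    rw [← hz]
    abel
  have e2 : a v' - v' = w' - b w' := by
    rw [← sub_eq_zero]
    rw [← hz']
    abel
  have f1 : B (a v) (a v') = B v v' := ha v v'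
  have f2 : B (b w) (b w') = B w w' := hb w w'
  -- goal : B (w' - a v') (a v - v) = - B (a v' - v') (w - a v)
  have g1 : B w' (a v - v) = B w' w - B w' (b w) := by rw [e1, map_sub]
  have g2 : B (a v' - v') w = B w' w - B (b w') w := by rw [e2, map_sub, AddMonoidHom.sub_apply]
  have g3 : B (a v' - v') (a v - v) = B (w' - b w') (w - b w) := by rw [e1, e2]
  have f3 : B (a v') (a v) = B v' v := ha v' v
  have f4 : B (b w') (b w) = B w' w := hb w' w
  simp only [map_sub, AddMonoidHom.sub_apply] at g1 g2 g3 ⊢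
  rw [f3, f4] at g3
  rw [f3]
  linear_combination g1 + g2 - g3

section Tr

variable [Fintype V] {R : Representation ℂ (Hs B) W}

theorem elt_v (a b : V ≃ₗ[F] V) (v w : V) :
    (d B (a v) * (d B v)⁻¹ * (d B (b w) * (d B w)⁻¹)).v = (a v - v) + (b w - w) := by
  simp only [mul_v, d_v, inv_v]
  abel

theorem elt_t {a b : V ≃ₗ[F] V} {v w : V} (h : (a v - v) + (b w - w) = 0) :
    (d B (a v) * (d B v)⁻¹ * (d B (b w) * (d B w)⁻¹)).t = B (a v - v) (w - a v) := by
  have e1 : b w = w - (a v - v) := by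
    rw [← sub_eq_zero]
    rw [← h]
    abel
  simp only [mul_v, mul_t, d_v, d_t, inv_v, inv_t]
  rw [e1]
  simp only [map_add, map_sub, map_neg, AddMonoidHom.add_apply, AddMonoidHom.sub_apply, AddMonoidHom.neg_apply]
  ring

open scoped Classical in
theorem trace_E_mul_E (h : SV ψ R) (hnd : ∀ v : V, v ≠ 0 → ∃ w, ψ (B w v - B v w) ≠ 1) (a b : V ≃ₗ[F] V) :
    LinearMap.trace ℂ W (E R a * E R b) = Module.finrank ℂ W * ∑ z : KK a b, ψ (Ph B a b z z) := by
  unfold E
  rw [Finset.sum_mul_sum, map_sum]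
  have h1 : ∀ v : V, LinearMap.trace ℂ W (∑ w : V, R (d B (a v) * (d B v)⁻¹) * R (d B (b w) * (d B w)⁻¹)) =
      ∑ w : V, (if (v, w) ∈ KK a b then (Module.finrank ℂ W : ℂ) * ψ (B (a v - v) (w - a v)) else 0) := by
    intro v
    rw [map_sum]
    refine Finset.sum_congr rfl fun w _ => ?_
    rw [← map_mul]
    by_cases hz : (a v - v) + (b w - w) = 0
    · rw [if_pos (mem_KK.2 hz), h.trace_z (by rw [elt_v]; exact hz), elt_t hz]
    · rw [if_neg (fun hh => hz (mem_KK.1 hh)), h.trace_eq_zero hnd (by rw [elt_v]; exact hz)]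
  rw [Finset.sum_congr rfl (fun v _ => h1 v), ← Fintype.sum_prod_type', ← Finset.sum_filter, Finset.mul_sum]
  symm
  refine Finset.sum_bij (fun z _ => (z : V × V)) (fun z _ => ?_) (fun z _ z' _ hh => Subtype.ext hh) (fun p hp => ?_)
    (fun z _ => rfl)
  · rw [Finset.mem_filter]
    exact ⟨Finset.mem_univ _, z.2⟩
  · rw [Finset.mem_filter] at hp
    exact ⟨⟨p, hp.2⟩, Finset.mem_univ _, rfl⟩

theorem trace_E (h : SV ψ R) (hnd : ∀ v : V, v ≠ 0 → ∃ w, ψ (B w v - B v w) ≠ 1) (a : V ≃ₗ[F] V) :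
    LinearMap.trace ℂ W (E R a) = Module.finrank ℂ W * Nat.card (fixS a) := by
  classical
  unfold E
  rw [map_sum]
  have h1 : ∀ v : V, LinearMap.trace ℂ W (R (d B (a v) * (d B v)⁻¹)) =
      if v ∈ fixS a then (Module.finrank ℂ W : ℂ) else 0 := by
    intro v
    by_cases hv : a v = v
    · rw [if_pos (mem_fixS.2 hv), hv, mul_inv_cancel, map_one, LinearMap.trace_one]
    · rw [if_neg (fun hh => hv (mem_fixS.1 hh)), h.trace_eq_zero hnd]
      simp only [mul_v, d_v, inv_v]
      rw [← sub_eq_add_neg, Ne, sub_eq_zero]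
      exact hv
  rw [Finset.sum_congr rfl (fun v _ => h1 v), ← Finset.sum_filter, Finset.sum_const, nsmul_eq_mul, mul_comm,
    Nat.card_eq_fintype_card, Fintype.card_subtype]

theorem trace_E_conj [Finite F] (a b : V ≃ₗ[F] V) :
    LinearMap.trace ℂ W (E R b⁻¹ * E R a⁻¹) = starRingEnd ℂ (LinearMap.trace ℂ W (E R a * E R b)) := by
  rw [E_inv, E_inv, Finset.sum_mul_sum]
  unfold E
  rw [Finset.sum_mul_sum, map_sum, map_sum, map_sum]
  have h1 : ∀ v w : V, LinearMap.trace ℂ W (R (d B (b w) * (d B w)⁻¹)⁻¹ * R (d B (a v) * (d B v)⁻¹)⁻¹) =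
      starRingEnd ℂ (LinearMap.trace ℂ W (R (d B (a v) * (d B v)⁻¹) * R (d B (b w) * (d B w)⁻¹))) := by
    intro v w
    rw [← map_mul, ← map_mul, ← mul_inv_rev]
    exact Characters.Core.isCharacter_apply_inv (Characters.Core.isCharacter_of_rep R) _
  simp only [map_sum]
  rw [Finset.sum_comm]
  refine Finset.sum_congr rfl fun v _ => Finset.sum_congr rfl fun w _ => ?_
  exact h1 v w

end Tr

section Sc

variable [Fintype V] {R : Representation ℂ (Hs B) W}

theorem E_mul_comm_of (h : SV ψ R) {X : Module.End ℂ W} (hX : ∀ x, X * R x = R x * X) :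
    ∃ c : ℂ, X = c • (1 : Module.End ℂ W) := Characters.Central.exists_smul_of_comm R h.irr X hX

theorem finrank_ne (h : SV ψ R) : (Module.finrank ℂ W : ℂ) ≠ 0 := by
  exact_mod_cast (Characters.Central.finrank_pos_of_irr R h.irr).ne'

theorem Ph_self_inv {a : V ≃ₗ[F] V} (ha : IsoM B a) (z : KK a⁻¹ a) : Ph B a⁻¹ a z z = 0 := by
  obtain ⟨⟨v, w⟩, hz⟩ := z
  rw [mem_KK] at hz
  unfold Ph
  simp only at hz ⊢
  have e0 : a (a⁻¹ v) = v := by
    rw [← LinearEquiv.mul_apply, mul_inv_cancel]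
    rfl
  have e1 : a (w - a⁻¹ v) = w - a⁻¹ v := by
    rw [map_sub, e0, ← sub_eq_zero, ← hz]
    abel
  have e2 := ha (a⁻¹ v) (w - a⁻¹ v)
  rw [e0, e1] at e2
  rw [map_sub B, AddMonoidHom.sub_apply, e2, sub_self]

theorem card_KK_inv (a : V ≃ₗ[F] V) : Nat.card (KK a⁻¹ a) = Nat.card V * Nat.card (fixS a) := by
  rw [← Nat.card_prod]
  refine Nat.card_congr
    { toFun := fun z => (z.1.1, ⟨z.1.2 - a⁻¹ z.1.1, ?_⟩)
      invFun := fun p => ⟨(p.1, (p.2 : V) + a⁻¹ p.1), ?_⟩
      left_inv := fun z => ?_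
      right_inv := fun p => ?_ }
  · have hz := mem_KK.1 z.2
    have e0 : a (a⁻¹ z.1.1) = z.1.1 := by
      rw [← LinearEquiv.mul_apply, mul_inv_cancel]
      rfl
    rw [mem_fixS, map_sub, e0, ← sub_eq_zero, ← hz]
    abel
  · rw [mem_KK]
    have e0 : a (a⁻¹ p.1) = p.1 := by
      rw [← LinearEquiv.mul_apply, mul_inv_cancel]
      rfl
    have e1 := mem_fixS.1 p.2.2
    show (a⁻¹ p.1 - p.1) + (a ((p.2 : V) + a⁻¹ p.1) - ((p.2 : V) + a⁻¹ p.1)) = 0
    rw [map_add, e0, e1]
    abel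
  · apply Subtype.ext
    apply Prod.ext
    · rfl
    · show z.1.2 - a⁻¹ z.1.1 + a⁻¹ z.1.1 = z.1.2
      abel
  · apply Prod.ext
    · rfl
    · apply Subtype.ext
      show (p.2 : V) + a⁻¹ p.1 - a⁻¹ p.1 = p.2
      abel

theorem E_inv_mul (h : SV ψ R) (hnd : ∀ v : V, v ≠ 0 → ∃ w, ψ (B w v - B v w) ≠ 1) {a : V ≃ₗ[F] V} (ha : IsoM B a) :
    E R a⁻¹ * E R a = ((Nat.card V * Nat.card (fixS a) : ℕ) : ℂ) • (1 : Module.End ℂ W) := by
  classical
  obtain ⟨c, hc⟩ := E_mul_comm_of h (X := E R a⁻¹ * E R a) fun x => by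
    rw [mul_assoc, E_mul_rep R ha, ← mul_assoc, E_mul_rep R ha.inv, mul_assoc]
    congr 2
    show (⟨a⁻¹ (a x.v), x.t⟩ : Hs B) = x
    have e0 : a⁻¹ (a x.v) = x.v := by
      rw [← LinearEquiv.mul_apply, inv_mul_cancel]
      rfl
    rw [e0]
  have h1 := trace_E_mul_E h hnd a⁻¹ a
  rw [Finset.sum_congr rfl (fun z _ => by rw [Ph_self_inv ha z, AddChar.map_zero_eq_one]), Finset.sum_const,
    Finset.card_univ, nsmul_eq_mul, mul_one, ← Nat.card_eq_fintype_card, card_KK_inv, hc, map_smul,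
    LinearMap.trace_one, smul_eq_mul, mul_comm] at h1
  have h2 := mul_left_cancel₀ (finrank_ne h) h1
  rw [hc, h2]

theorem exists_E_mul (h : SV ψ R) (hnd : ∀ v : V, v ≠ 0 → ∃ w, ψ (B w v - B v w) ≠ 1) {a b : V ≃ₗ[F] V}
    (ha : IsoM B a) (hb : IsoM B b) : ∃ c : ℂ, E R a * E R b = c • E R (a * b) := by
  obtain ⟨c, hc⟩ := E_mul_comm_of h (X := E R (a * b)⁻¹ * (E R a * E R b)) fun x => by
    rw [mul_assoc, mul_assoc, E_mul_rep R hb, ← mul_assoc (E R a), E_mul_rep R ha, ← mul_assoc, ← mul_assoc,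
      E_mul_rep R (ha.mul hb).inv, mul_assoc, mul_assoc]
    congr 2
    show (⟨(a * b)⁻¹ (a (b x.v)), x.t⟩ : Hs B) = x
    have e0 : (a * b)⁻¹ (a (b x.v)) = x.v := by
      rw [← LinearEquiv.mul_apply a, ← LinearEquiv.mul_apply, inv_mul_cancel]
      rfl
    rw [e0]
  have h1 := E_inv_mul h hnd (ha.mul hb).inv
  rw [inv_inv] at h1
  have h2 : (((Nat.card V * Nat.card (fixS (a * b)⁻¹) : ℕ) : ℂ)) ≠ 0 := by
    have : Nonempty V := ⟨0⟩
    exact_mod_cast (Nat.mul_pos Nat.card_pos Nat.card_pos).ne'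
  refine ⟨(((Nat.card V * Nat.card (fixS (a * b)⁻¹) : ℕ) : ℂ))⁻¹ * c, ?_⟩
  have h3 : E R (a * b) * (E R (a * b)⁻¹ * (E R a * E R b)) = E R (a * b) * (c • 1) := by rw [hc]
  rw [← mul_assoc, h1, smul_mul_assoc, one_mul, mul_smul_comm, mul_one] at h3
  rw [mul_smul, ← h3, smul_smul, inv_mul_cancel₀ h2, one_smul]

end Sc

/-- the nondegeneracy of the commutator form -/
theorem nd_of (hq : UF F q σ) (hB : Herm σ B) (hψ : ∃ s, σ s = -s ∧ ψ s ≠ 1) : ∀ v : V, v ≠ 0 → ∃ w, ψ (B w v - B v w) ≠ 1 := by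
  intro v hv
  obtain ⟨s, hs, hs1⟩ := hψ
  obtain ⟨y, hy⟩ : ∃ y, B v y ≠ 0 := by
    by_contra hh
    push Not at hh
    exact hv (hB.nondeg v hh)
  have hy' : B y v ≠ 0 := by
    rw [← hB.symm v y, Ne, map_eq_zero]
    exact hy
  obtain ⟨c, hc⟩ := hq.exists_sub hs
  refine ⟨(c / B y v) • y, ?_⟩
  rw [← hB.symm ((c / B y v) • y) v, hB.smul_left, div_mul_cancel₀ _ hy', hc]
  exact hs1

section Fin

variable [Fintype V] {R : Representation ℂ (Hs B) W}

theorem card_sub (hq : UF F q σ) (S : Submodule F V) : Nat.card S = q ^ (2 * Module.finrank F S) := by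
  have hf := hq.finite
  rw [Module.natCard_eq_pow_finrank (K := F), hq.card, pow_mul]

/-- **The multiplication rule.** -/
theorem E_mul (hq : UF F q σ) (hB : Herm σ B) (hψ : ∃ s, σ s = -s ∧ ψ s ≠ 1) (h : SV ψ R) {a b : V ≃ₗ[F] V}
    (ha : IsoM B a) (hb : IsoM B b) :
    (-(q : ℂ)) ^ Module.finrank F (fixS (a * b)) • (E R a * E R b) =
      (-(q : ℂ)) ^ (Module.finrank F V + Module.finrank F (fixS a) + Module.finrank F (fixS b)) • E R (a * b) := by
  classical
  have hf := hq.finite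
  have hnd := nd_of hq hB hψ
  have h2 := hq.two_le
  have hq0 : (q : ℂ) ≠ 0 := by
    have : q ≠ 0 := by omega
    exact_mod_cast this
  have hn := finrank_ne h
  obtain ⟨c, hc⟩ := exists_E_mul h hnd ha hb
  obtain ⟨c', hc'⟩ := exists_E_mul h hnd hb.inv ha.inv
  rw [← mul_inv_rev] at hc'
  obtain ⟨m, hm⟩ := gauss (K := KK a b) hq ψ hψ (Fintype.card (KK a b)) (Ph B a b) rfl
    (fun x y z => by
      unfold Ph
      rw [← AddMonoidHom.add_apply, ← map_add]
      congr 2
      show a ((x : V × V).1 + (y : V × V).1) - ((x : V × V).1 + (y : V × V).1) = _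
      rw [map_add]
      abel)
    (fun t x y => by
      unfold Ph
      rw [← hB.smul_left]
      congr 2
      show a (t • (x : V × V).1) - t • (x : V × V).1 = _
      rw [map_smul, smul_sub])
    (fun x y => Ph_skew hB ha hb x y)
  have hT := trace_E_mul_E h hnd a b
  rw [hm] at hT
  have hT' := trace_E_conj (R := R) a b
  have hconj : starRingEnd ℂ ((Module.finrank ℂ W : ℂ) * (-(q : ℂ)) ^ m) = (Module.finrank ℂ W : ℂ) * (-(q : ℂ)) ^ m := by
    simp
  rw [hT, hconj] at hT'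
  rw [hc, map_smul, trace_E h hnd, smul_eq_mul] at hT
  rw [hc', map_smul, trace_E h hnd, smul_eq_mul, fixS_inv] at hT'
  have hcc : c' = c := by
    have h3 : c' * ((Module.finrank ℂ W : ℂ) * (Nat.card (fixS (a * b)) : ℂ)) =
        c * ((Module.finrank ℂ W : ℂ) * (Nat.card (fixS (a * b)) : ℂ)) := by rw [hT, hT']
    refine mul_right_cancel₀ (mul_ne_zero hn ?_) h3
    exact_mod_cast Nat.card_pos.ne'
  have hsab := E_inv_mul h hnd (ha.mul hb)
  have hsa := E_inv_mul h hnd ha
  have hsb := E_inv_mul h hnd hb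
  have h4 : (E R b⁻¹ * E R a⁻¹) * (E R a * E R b) = E R b⁻¹ * (E R a⁻¹ * E R a) * E R b := by
    simp only [mul_assoc]
  rw [hc, hc', hcc, hsa, smul_mul_smul_comm, hsab, mul_smul_comm, mul_one, smul_mul_assoc, hsb, smul_smul, smul_smul] at h4
  have h5 : Nontrivial W := by
    have := Characters.Central.finrank_pos_of_irr R h.irr
    exact Module.finrank_pos_iff.1 this
  obtain ⟨w, hw⟩ := exists_ne (0 : W)
  have h6 := congrArg (fun X : Module.End ℂ W => X w) h4
  simp only [LinearMap.smul_apply, Module.End.one_apply] at h6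
  have h7 := smul_left_injective ℂ hw h6
  -- numbers
  have hV : Nat.card V = q ^ (2 * Module.finrank F V) := by
    rw [Module.natCard_eq_pow_finrank (K := F), hq.card, pow_mul]
  rw [hV, card_sub hq, card_sub hq, card_sub hq] at h7
  rw [card_sub hq, mul_left_comm] at hT
  have h8 := mul_left_cancel₀ hn hT
  -- exponents
  have h9 : 2 * m + (2 * Module.finrank F V + 2 * Module.finrank F (fixS (a * b))) =
      4 * Module.finrank F (fixS (a * b)) + (2 * Module.finrank F V + 2 * Module.finrank F (fixS a)) +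
        (2 * Module.finrank F V + 2 * Module.finrank F (fixS b)) := by
    have h10 : ((q : ℂ)) ^ (2 * m + (2 * Module.finrank F V + 2 * Module.finrank F (fixS (a * b)))) =
      (q : ℂ) ^ (4 * Module.finrank F (fixS (a * b)) + (2 * Module.finrank F V + 2 * Module.finrank F (fixS a)) +
        (2 * Module.finrank F V + 2 * Module.finrank F (fixS b))) := by
      have h11 : (q : ℂ) ^ (2 * m) = (c * (q : ℂ) ^ (2 * Module.finrank F (fixS (a * b)))) ^ 2 := by
        push_cast at h8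
        rw [h8, ← pow_mul, mul_comm m 2, pow_mul (-(q : ℂ)), neg_sq, ← pow_mul]
      push_cast at h7
      rw [pow_add, pow_add _ (2 * Module.finrank F V), h11, pow_add _ _ (2 * Module.finrank F V + 2 * Module.finrank F (fixS b)),
        pow_add _ (4 * _), pow_add _ (2 * Module.finrank F V) (2 * Module.finrank F (fixS a)),
        pow_add _ (2 * Module.finrank F V) (2 * Module.finrank F (fixS b))]
      have h12 : (q : ℂ) ^ (4 * Module.finrank F (fixS (a * b))) = ((q : ℂ) ^ (2 * Module.finrank F (fixS (a * b)))) ^ 2 := by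
        rw [← pow_mul]
        congr 1
        ring
      rw [h12]
      linear_combination ((q : ℂ) ^ (2 * Module.finrank F (fixS (a * b)))) ^ 2 * h7
    have h13 : q ^ (2 * m + (2 * Module.finrank F V + 2 * Module.finrank F (fixS (a * b)))) =
      q ^ (4 * Module.finrank F (fixS (a * b)) + (2 * Module.finrank F V + 2 * Module.finrank F (fixS a)) +
        (2 * Module.finrank F V + 2 * Module.finrank F (fixS b))) := by exact_mod_cast h10
    exact Nat.pow_right_injective h2 h13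
  have h14 : m = Module.finrank F (fixS (a * b)) + (Module.finrank F V + Module.finrank F (fixS a) +
    Module.finrank F (fixS b)) := by omega
  rw [h14, pow_add] at h8
  push_cast at h8
  have h15 : c * (-(q : ℂ)) ^ Module.finrank F (fixS (a * b)) =
      (-(q : ℂ)) ^ (Module.finrank F V + Module.finrank F (fixS a) + Module.finrank F (fixS b)) := by
    have h16 : (q : ℂ) ^ (2 * Module.finrank F (fixS (a * b))) =
        (-(q : ℂ)) ^ Module.finrank F (fixS (a * b)) * (-(q : ℂ)) ^ Module.finrank F (fixS (a * b)) := by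
      rw [← pow_add, ← two_mul, pow_mul, pow_mul, neg_sq]
    rw [h16, ← mul_assoc, mul_comm _ ((-(q : ℂ)) ^ Module.finrank F (fixS (a * b)))] at h8
    exact mul_left_cancel₀ (pow_ne_zero _ (neg_ne_zero.2 hq0)) h8
  rw [hc, smul_smul, mul_comm, h15]

theorem finrank_eq (hq : UF F q σ) (hB : Herm σ B) (hψ : ∃ s, σ s = -s ∧ ψ s ≠ 1) (h : SV ψ R) :
    Module.finrank ℂ W = q ^ Module.finrank F V := by
  have hf := hq.finite
  have h1 := h.finrank_sq (nd_of hq hB hψ)
  rw [Module.natCard_eq_pow_finrank (K := F), hq.card, ← pow_mul, mul_comm, pow_mul] at h1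
  exact Nat.pow_left_injective (n := 2) two_ne_zero h1

end Fin

/-- **The Weil character of a unitary group**, for a group acting by isometries on a nondegenerate hermitian space. -/
theorem weil_isCharacter [Finite V] (hq : UF F q σ) (hB : Herm σ B) {G : Type*} [Group G] (ρ : G →* (V ≃ₗ[F] V))
    (hρ : ∀ g, IsoM B (ρ g)) :
    IsCharacter G (fun g => (-1 : ℂ) ^ Module.finrank F V * (-(q : ℂ)) ^ Module.finrank F (fixS (ρ g))) := by
  classical
  have : Fintype V := Fintype.ofFinite V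
  have hf := hq.finite
  have h2 := hq.two_le
  have hq0 : (-(q : ℂ)) ≠ 0 := by
    have : q ≠ 0 := by omega
    exact neg_ne_zero.2 (by exact_mod_cast this)
  obtain ⟨ψ, hψ⟩ := hq.exists_char
  obtain ⟨U, R, h⟩ := exists_sv B ψ
  have hfix1 : Module.finrank F (fixS (1 : V ≃ₗ[F] V)) = Module.finrank F V := by
    have : fixS (1 : V ≃ₗ[F] V) = ⊤ := by
      rw [eq_top_iff]
      intro x _
      rw [mem_fixS]
      rfl
    rw [this, finrank_top]
  let T : G →* Module.End ℂ U :=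
    { toFun := fun g => ((-(q : ℂ)) ^ (Module.finrank F V + Module.finrank F (fixS (ρ g))))⁻¹ • E R (ρ g)
      map_one' := by
        rw [map_one, E_one, hfix1, ← Nat.card_eq_fintype_card, Module.natCard_eq_pow_finrank (K := F), hq.card, ← two_mul,
          pow_mul, neg_sq, smul_smul]
        push_cast
        rw [inv_mul_cancel₀, one_smul]
        exact pow_ne_zero _ (pow_ne_zero _ (neg_ne_zero.1 hq0))
      map_mul' := fun a b => by
        have h3 := E_mul hq hB hψ h (hρ a) (hρ b)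
        rw [← map_mul] at h3
        rw [smul_mul_smul_comm]
        have h4 : E R (ρ (a * b)) = ((-(q : ℂ)) ^ (Module.finrank F V + Module.finrank F (fixS (ρ a)) +
            Module.finrank F (fixS (ρ b))))⁻¹ • (-(q : ℂ)) ^ Module.finrank F (fixS (ρ (a * b))) • (E R (ρ a) * E R (ρ b)) := by
          rw [h3, smul_smul, inv_mul_cancel₀ (pow_ne_zero _ hq0), one_smul]
        rw [h4, smul_smul, smul_smul]
        congr 1
        simp only [pow_add]
        field_simp }
  have hT : IsCharacter G (Representation.character (show Representation ℂ G U from T)) :=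
    Characters.Core.isCharacter_of_rep _
  convert hT using 1
  funext g
  show _ = LinearMap.trace ℂ U (((-(q : ℂ)) ^ (Module.finrank F V + Module.finrank F (fixS (ρ g))))⁻¹ • E R (ρ g))
  rw [map_smul, trace_E h (nd_of hq hB hψ), finrank_eq hq hB hψ h, card_sub hq, smul_eq_mul]
  push_cast
  rw [eq_inv_mul_iff_mul_eq₀ (pow_ne_zero _ hq0)]
  have h5 : (q : ℂ) ^ Module.finrank F V = (-1) ^ Module.finrank F V * (-(q : ℂ)) ^ Module.finrank F V := by
    rw [← mul_pow]
    congr 1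
    ring
  have h6 : (q : ℂ) ^ (2 * Module.finrank F (fixS (ρ g))) =
      (-(q : ℂ)) ^ Module.finrank F (fixS (ρ g)) * (-(q : ℂ)) ^ Module.finrank F (fixS (ρ g)) := by
    rw [← pow_add, ← two_mul, pow_mul, pow_mul, neg_sq]
  rw [h5, h6, pow_add]
  ring

end Cfsg.Agent.H603.Weil
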